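import Cfsg.Agent.KGV.I.Rx
import Mathlib.GroupTheory.Subgroup.Centralizer

set_option autoImplicit false
set_option linter.unusedSectionVars false

namespace CL.KGV.IM

open CL.KGV.Idem Matrix Subgroup

variable {K n : Type*} [Field K] [Fintype K] [Fintype n] [DecidableEq n]

theorem one_x (p : ℕ) [Fact p.Prime] [CharP K p] {A : Type*} [Ring A]
    (φ : A →+* Matrix n n K) (hinj : Function.Injective φ)
    (hφ : ∀ a, (φ a).map (frobeniusEquiv K p) = φ a)
    (hfix : ∀ M : Matrix n n K, M.map (frobeniusEquiv K p) = M → ∃ a, φ a = M)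
    (l : K → ℕ) (ρ : K → K → K) (h1 : ∀ a b, ρ (a ^ p) (b ^ p) = ρ a b ^ p)
    (h3 : ∀ a b, ∃ i : ℕ, ρ a b = b ^ p ^ i)
    (h4 : ∀ m : K → K → ℕ, (∀ a b, m (a ^ p) (b ^ p) = m a b) → (∀ b, m 0 b = 0) →
      (∀ a, m a 0 = 0) → ∏ a, ∏ b, a ^ (l b * m a b) = ∏ a, ∏ b, ρ a b ^ (l a * m a b))
    (h5 : ∀ m : K → K → ℕ, (∀ a b, m (a ^ p) (b ^ p) = m a b) → (∀ b, m 0 b = 0) →
      (∀ a, m a 0 = 0) → ∑ a, ∑ b, (m a b : K) * ρ a b = ∑ a, ∑ b, (m a b : K) * b)
    (g : Aˣ) (hg : g ^ Fintype.card K = g) (x : Aˣ)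
    (hx : (x ^ Fintype.card K) ^ Fintype.card K = x ^ Fintype.card K) (hc : Commute g x) :
    ∃ a : Aˣ, φ a = RR ρ (φ g) (φ (x ^ Fintype.card K : Aˣ)) ∧ Commute g a ∧ Commute x a ∧
      a ^ Fintype.card K = a ∧
      D l (φ x) (φ g) = D l (φ g) (φ (x * (x ^ Fintype.card K)⁻¹ * a : Aˣ)) ∧
      (φ (x * (x ^ Fintype.card K)⁻¹ * a : Aˣ)).trace = (φ x).trace := by
  set Q := Fintype.card K with hQ
  set G := φ g with hGd
  set S := φ (x ^ Q : Aˣ) with hSd
  set u : Aˣ := x * (x ^ Q)⁻¹ with hu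
  have cm : ∀ {y z : Aˣ}, Commute y z → Commute (φ y) (φ z) := fun h => h.units_val.map φ
  have cm' : ∀ {y z : Aˣ}, Commute (φ y) (φ z) → Commute y z := fun {y z} h =>
    Units.ext (hinj (by simpa using h.eq))
  have hG : G ^ Q = G := by rw [hGd, ← map_pow, ← Units.val_pow_eq_pow_val, hg]
  have hS : S ^ Q = S := by rw [hSd, ← map_pow, ← Units.val_pow_eq_pow_val, hx]
  have hGS : Commute G S := cm (hc.pow_right Q)
  have hG0 : ep G (0 : K) = 0 := ep_zero hG ((Units.isUnit g).map φ)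
  have hS0 : ep S (0 : K) = 0 := ep_zero hS ((Units.isUnit _).map φ)
  have hm1 : ∀ a b : K, (PP G S (a ^ p, b ^ p)).rank = (PP G S (a, b)).rank := fun a b => by
    have := map_PP (frobeniusEquiv K p) (hφ g) (hφ (x ^ Q : Aˣ)) (a, b)
    rw [← rank_map (frobeniusEquiv K p) (PP G S (a, b)), this]; rfl
  have hm2 : ∀ b : K, (PP G S (0, b)).rank = 0 := fun b => by simp [PP, hG0]
  have hm3 : ∀ a : K, (PP G S (a, 0)).rank = 0 := fun a => by simp [PP, hS0]
  obtain ⟨a0, ha0⟩ := hfix (RR ρ G S) (map_RR _ ρ h1 (hφ g) (hφ _))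
  have hRu : IsUnit (RR ρ G S) := by
    rw [isUnit_iff_isUnit_det, isUnit_iff_ne_zero, RR, det_coi (coiP hG hS hGS)]
    refine Finset.prod_ne_zero_iff.2 fun ab _ => ?_
    by_cases hb : ab.2 = 0
    · obtain ⟨a, b⟩ := ab
      obtain rfl : b = 0 := hb
      rw [hm3]; simp
    · obtain ⟨i, hi⟩ := h3 ab.1 ab.2
      rw [hi]; exact pow_ne_zero _ (pow_ne_zero _ hb)
  have hQ1 : 1 < Q := Fintype.one_lt_card
  have hR := RR_pow hG hS hGS ρ
  have hR1 : RR ρ G S ^ (Q - 1) = 1 := by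
    refine hRu.mul_right_cancel ?_
    rw [← pow_succ, one_mul, Nat.sub_add_cancel hQ1.le, hR]
  have ha1 : a0 ^ (Q - 1) = 1 := hinj (by rw [map_pow, ha0, hR1, map_one])
  obtain ⟨a, rfl⟩ : IsUnit a0 := IsUnit.of_pow_eq_one ha1 (by omega)
  have hga : Commute g a := cm' (ha0 ▸ commute_RR ρ (Commute.refl G) hGS)
  have hxa : Commute x a := cm' (ha0 ▸ commute_RR ρ (cm hc.symm) (cm ((Commute.refl x).pow_right Q)))
  have hug : Commute u g := hc.symm.mul_left (hc.symm.pow_left Q).inv_left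
  have hua : Commute u a := hxa.mul_left (hxa.pow_left Q).inv_left
  have hux : Commute u (x ^ Q) :=
    ((Commute.refl x).pow_right Q).mul_left (Commute.refl _).inv_left
  have hu1 : u ^ Q = 1 := by
    rw [hu, ((Commute.refl x).pow_right Q).inv_right.mul_pow, inv_pow, hx, mul_inv_cancel]
  have hU : φ u ^ Q = 1 := by rw [← map_pow, ← Units.val_pow_eq_pow_val, hu1]; simp
  have e1 : φ (u * a : Aˣ) = φ u * RR ρ G S := by rw [Units.val_mul, map_mul, ha0]
  have e2 : φ x = φ u * S := by rw [hSd, ← map_mul, ← Units.val_mul, hu, inv_mul_cancel_right]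
  refine ⟨a, ha0, hga, hxa, Units.ext (hinj ?_), ?_, ?_⟩
  · rw [Units.val_pow_eq_pow_val, map_pow, ha0, hR]
  · have e3 : φ x ^ Q = S := by rw [hSd, Units.val_pow_eq_pow_val, map_pow]
    unfold D
    rw [← hQ, e3, hG, e1]
    have e4 : ∀ c : K, (cut (ep G c) (φ u * RR ρ G S)).det = ∏ b, ρ c b ^ (PP G S (c, b)).rank :=
      fun c => by
        have hcu := commute_ep (cm hug) c
        rw [cut_mul _ ((coi hG).idem c) hcu, det_mul, det_cut_unip ((coi hG).idem c) hcu hU,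
          one_mul, det_cut_G hG hS hGS]
    simp only [e4, det_cut_S hG hS hGS, ← Finset.prod_pow, ← pow_mul]
    rw [Finset.prod_comm]
    have := h4 (fun a b => (PP G S (a, b)).rank) hm1 hm2 hm3
    simpa only [mul_comm] using this
  · rw [e1, e2, trace_unip p (ha0 ▸ cm hua) hU, trace_unip p (cm hux) hU, RR,
      trace_coi (coiP hG hS hGS)]
    have e5 : S.trace = ∑ ab : K × K, ab.2 * (PP G S ab).rank := by
      rw [← trace_coi (coiP hG hS hGS), ← S_eq hG hS hGS]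
    rw [← hSd, e5]
    rw [Fintype.sum_prod_type, Fintype.sum_prod_type]
    have := h5 (fun a b => (PP G S (a, b)).rank) hm1 hm2 hm3
    simpa only [mul_comm] using this

theorem core (p : ℕ) [Fact p.Prime] [CharP K p] {A : Type*} [Ring A] [Finite A]
    (φ : A →+* Matrix n n K) (hinj : Function.Injective φ)
    (hφ : ∀ a, (φ a).map (frobeniusEquiv K p) = φ a)
    (hfix : ∀ M : Matrix n n K, M.map (frobeniusEquiv K p) = M → ∃ a, φ a = M)
    (l : K → ℕ) (ρ : K → K → K) (h1 : ∀ a b, ρ (a ^ p) (b ^ p) = ρ a b ^ p)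
    (h2 : ∀ a, Function.Injective (ρ a)) (h3 : ∀ a b, ∃ i : ℕ, ρ a b = b ^ p ^ i)
    (h4 : ∀ m : K → K → ℕ, (∀ a b, m (a ^ p) (b ^ p) = m a b) → (∀ b, m 0 b = 0) →
      (∀ a, m a 0 = 0) → ∏ a, ∏ b, a ^ (l b * m a b) = ∏ a, ∏ b, ρ a b ^ (l a * m a b))
    (h5 : ∀ m : K → K → ℕ, (∀ a b, m (a ^ p) (b ^ p) = m a b) → (∀ b, m 0 b = 0) →
      (∀ a, m a 0 = 0) → ∑ a, ∑ b, (m a b : K) * ρ a b = ∑ a, ∑ b, (m a b : K) * b)
    (hQ : ∀ x : Aˣ, (x ^ Fintype.card K) ^ Fintype.card K = x ^ Fintype.card K)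
    (g : Aˣ) (hg : g ^ Fintype.card K = g) :
    ∃ r : Equiv.Perm (centralizer ({g} : Set Aˣ)), ∀ x,
      D l (φ x.1.1) (φ g.1) = D l (φ g.1) (φ (r x).1.1) ∧
        (φ (r x).1.1).trace = (φ x.1.1).trace := by
  have hc : ∀ x : centralizer ({g} : Set Aˣ), Commute g x.1 := fun x => x.2 g rfl
  choose a ha hga hxa haQ hD ht using fun x : centralizer ({g} : Set Aˣ) =>
    one_x p φ hinj hφ hfix l ρ h1 h3 h4 h5 g hg x.1 (hQ x.1) (hc x)
  let f : centralizer ({g} : Set Aˣ) → centralizer ({g} : Set Aˣ) := fun x =>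
    ⟨x.1 * (x.1 ^ Fintype.card K)⁻¹ * a x, by
      rintro _ rfl
      exact (((hc x).mul_right ((hc x).pow_right _).inv_right).mul_right (hga x)).eq⟩
  have hp : ∀ x, (f x).1 ^ Fintype.card K = a x := fun x => by
    show (x.1 * (x.1 ^ Fintype.card K)⁻¹ * a x) ^ Fintype.card K = a x
    rw [((hxa x).mul_left ((hxa x).pow_left _).inv_left).mul_pow,
      ((Commute.refl x.1).pow_right _).inv_right.mul_pow, inv_pow, hQ, mul_inv_cancel, one_mul, haQ]
  have hpw : ∀ y : Aˣ, y ^ Fintype.card K = y → φ y ^ Fintype.card K = φ y := fun y h => by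
    rw [← map_pow, ← Units.val_pow_eq_pow_val, h]
  have hf : Function.Injective f := fun x y h => by
    have e1 : a x = a y := by rw [← hp, ← hp, h]
    have e2 : x.1 ^ Fintype.card K = y.1 ^ Fintype.card K := Units.ext (hinj
      (RR_inj ρ h2 (hpw g hg) (hpw _ (hQ x.1)) (((hc x).pow_right _).units_val.map φ)
        (hpw _ (hQ y.1)) (((hc y).pow_right _).units_val.map φ) (by rw [← ha, ← ha, e1])))
    have e3 : x.1 * (x.1 ^ Fintype.card K)⁻¹ * a x = y.1 * (y.1 ^ Fintype.card K)⁻¹ * a y :=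
      congrArg Subtype.val h
    rw [e1, e2] at e3
    exact Subtype.ext (mul_right_cancel (mul_right_cancel e3))
  exact ⟨Equiv.ofBijective f (Finite.injective_iff_bijective.1 hf), fun x => ⟨hD x, ht x⟩⟩

end CL.KGV.IM
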