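import Mathlib.LinearAlgebra.Projection
import Mathlib.LinearAlgebra.Determinant
import Mathlib.LinearAlgebra.Trace
import Mathlib.RingTheory.Idempotents
import Mathlib.LinearAlgebra.Matrix.ToLin
import Mathlib.LinearAlgebra.FiniteDimensional.Lemmas
import Mathlib.FieldTheory.Finite.Basic
import Mathlib.Algebra.Polynomial.AlgebraMap

set_option autoImplicit false

namespace CL.KGV.Idem

variable {K V : Type*} [Field K] [AddCommGroup V] [Module K V] [Module.Finite K V]

/-- The rank of an endomorphism. -/
noncomputable def rk (E : Module.End K V) : ℕ := Module.finrank K (LinearMap.range E)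

theorem det_smul_add (E : Module.End K V) (hE : IsIdempotentElem E) (c : K) :
    LinearMap.det (c • E + (1 - E)) = c ^ rk E := by
  have hp : LinearMap.IsProj (LinearMap.range E) E := LinearMap.IsIdempotentElem.isProj_range E hE
  have h := hp.eq_conj_prodMap
  set e := (Submodule.prodEquivOfIsCompl (LinearMap.range E) (LinearMap.ker E) hp.isCompl)
  have key : c • E + (1 - E) = e.conj (LinearMap.prodMap (c • LinearMap.id) LinearMap.id) := by
    ext v
    obtain ⟨⟨a, b⟩, rfl⟩ := e.surjective v
    have ha : E a = a := hp.map_id a a.2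
    have hb : E b = 0 := b.2
    simp [e, LinearEquiv.conj_apply, ha, hb]
  rw [key, LinearEquiv.conj_apply, LinearMap.comp_assoc]
  rw [LinearMap.det_conj]
  simp [LinearMap.det_prodMap, rk]

theorem trace_idem (E : Module.End K V) (hE : IsIdempotentElem E) :
    LinearMap.trace K V E = (rk E : K) :=
  (LinearMap.IsIdempotentElem.isProj_range E hE).trace

theorem det_sum {ι : Type*} (E : ι → Module.End K V) (hE : OrthogonalIdempotents E)
    (c : ι → K) (s : Finset ι) :
    LinearMap.det (∑ i ∈ s, c i • E i + (1 - ∑ i ∈ s, E i)) = ∏ i ∈ s, c i ^ rk (E i) := by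
  classical
  induction s using Finset.induction_on with
  | empty => simp
  | insert j s hj ih =>
    have h0 : ∀ i ∈ s, E j * E i = 0 := fun i hi => hE.ortho (fun h => hj (h ▸ hi))
    have h1 : E j * ∑ i ∈ s, c i • E i = 0 := by
      rw [Finset.mul_sum]; exact Finset.sum_eq_zero fun i hi => by rw [mul_smul_comm, h0 i hi, smul_zero]
    have h2 : E j * ∑ i ∈ s, E i = 0 := by
      rw [Finset.mul_sum]; exact Finset.sum_eq_zero h0
    have key : ∑ i ∈ insert j s, c i • E i + (1 - ∑ i ∈ insert j s, E i) =
        (c j • E j + (1 - E j)) * (∑ i ∈ s, c i • E i + (1 - ∑ i ∈ s, E i)) := by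
      rw [Finset.sum_insert hj, Finset.sum_insert hj]
      simp only [add_mul, mul_add, sub_mul, mul_sub, one_mul, mul_one, smul_mul_assoc, h1, h2,
        smul_zero]
      abel
    rw [key, map_mul, ih, det_smul_add _ (hE.idem j), Finset.prod_insert hj]

theorem det_sum_top {ι : Type*} [Fintype ι] (E : ι → Module.End K V)
    (hE : CompleteOrthogonalIdempotents E) (c : ι → K) :
    LinearMap.det (∑ i, c i • E i) = ∏ i, c i ^ rk (E i) := by
  have h := det_sum E hE.toOrthogonalIdempotents c Finset.univ
  rwa [hE.complete, sub_self, add_zero] at h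

theorem trace_sum {ι : Type*} (E : ι → Module.End K V) (hE : ∀ i, IsIdempotentElem (E i))
    (c : ι → K) (s : Finset ι) :
    LinearMap.trace K V (∑ i ∈ s, c i • E i) = ∑ i ∈ s, c i * rk (E i) := by
  rw [map_sum]
  exact Finset.sum_congr rfl fun i _ => by rw [map_smul, trace_idem _ (hE i), smul_eq_mul]

section Spec

open Polynomial

variable {F A : Type*} [Field F] [Fintype F] [Ring A] [Algebra F A]

/-- The spectral idempotent of `s` at `a`. -/
def ep (s : A) (a : F) : A := 1 - (s - algebraMap F A a) ^ (Fintype.card F - 1)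

theorem aeval_congr {s : A} (hs : s ^ Fintype.card F = s) {P Q : F[X]}
    (h : ∀ a, P.eval a = Q.eval a) : aeval s P = aeval s Q := by
  classical
  have hd : (X ^ Fintype.card F - X : F[X]) ∣ P - Q := by
    have hm : (X ^ Fintype.card F - X : F[X]).Monic :=
      monic_X_pow_sub (by rw [degree_X]; exact_mod_cast Fintype.one_lt_card)
    have hp : ∏ a : F, (X - C a) = (X ^ Fintype.card F - X : F[X]) := by
      have h1 := prod_multiset_X_sub_C_of_monic_of_roots_card_eq hm (by
        rw [FiniteField.roots_X_pow_card_sub_X,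
          FiniteField.X_pow_card_sub_X_natDegree_eq F Fintype.one_lt_card]; rfl)
      rw [FiniteField.roots_X_pow_card_sub_X] at h1
      exact h1
    rw [← hp]
    refine Finset.prod_dvd_of_coprime (fun a _ b _ hab => ?_) fun a _ => ?_
    · exact isCoprime_X_sub_C_of_isUnit_sub (sub_ne_zero.2 hab).isUnit
    · rw [dvd_iff_isRoot, IsRoot, eval_sub, h a, sub_self]
  obtain ⟨R, hR⟩ := hd
  have : aeval s (P - Q) = 0 := by
    rw [hR, map_mul]; simp [hs]
  rwa [map_sub, sub_eq_zero] at this

theorem ep_eq (s : A) (a : F) :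
    ep s a = aeval s (1 - (X - C a) ^ (Fintype.card F - 1) : F[X]) := by
  simp [ep]

theorem eval_e [DecidableEq F] (a b : F) :
    (1 - (X - C a) ^ (Fintype.card F - 1) : F[X]).eval b = if b = a then 1 else 0 := by
  have hc : Fintype.card F - 1 ≠ 0 := by
    have := Fintype.one_lt_card (α := F); omega
  split_ifs with h
  · simp [h, hc]
  · simp [FiniteField.pow_card_sub_one_eq_one _ (sub_ne_zero.2 h)]

theorem coi {s : A} (hs : s ^ Fintype.card F = s) :
    CompleteOrthogonalIdempotents (fun a : F => ep s a) := by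
  classical
  refine ⟨⟨fun a => ?_, fun a b hab => ?_⟩, ?_⟩
  · show ep s a * ep s a = ep s a
    rw [ep_eq, ← map_mul]
    refine aeval_congr hs fun b => ?_
    rw [eval_mul, eval_e]; split_ifs <;> simp
  · show ep s a * ep s b = 0
    rw [ep_eq, ep_eq, ← map_mul, ← map_zero (aeval s : F[X] →ₐ[F] A)]
    refine aeval_congr hs fun c => ?_
    rw [eval_mul, eval_e, eval_e]
    split_ifs with h1 h2
    · exact absurd (h1.symm.trans h2) hab
    all_goals simp
  · simp only [ep_eq]
    rw [← map_sum, ← map_one (aeval s : F[X] →ₐ[F] A)]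
    refine aeval_congr hs fun c => ?_
    rw [eval_finsetSum]
    simp only [eval_e]
    simp

theorem mul_ep {s : A} (hs : s ^ Fintype.card F = s) (a : F) : s * ep s a = a • ep s a := by
  classical
  have h1 : s * ep s a = aeval s (X * (1 - (X - C a) ^ (Fintype.card F - 1)) : F[X]) := by
    rw [map_mul, aeval_X, ep_eq]
  have h2 : a • ep s a = aeval s (C a * (1 - (X - C a) ^ (Fintype.card F - 1)) : F[X]) := by
    rw [map_mul, aeval_C, ep_eq, Algebra.smul_def]
  rw [h1, h2]
  refine aeval_congr hs fun c => ?_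
  rw [eval_mul, eval_mul, eval_e]
  split_ifs with h <;> simp [h]

theorem sum_ep {s : A} (hs : s ^ Fintype.card F = s) : ∑ a : F, a • ep s a = s := by
  simp only [← mul_ep hs]
  rw [← Finset.mul_sum, (coi hs).complete, mul_one]

theorem commute_ep {s t : A} (h : Commute t s) (a : F) : Commute t (ep s a) :=
  (Commute.one_right t).sub_right
    ((h.sub_right (Algebra.commute_algebraMap_right a t)).pow_right _)

theorem ep_commute {s t : A} (h : Commute s t) (a b : F) : Commute (ep s a) (ep t b) :=
  commute_ep (commute_ep h.symm a).symm b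

theorem coi2 {s t : A} (hs : s ^ Fintype.card F = s) (ht : t ^ Fintype.card F = t)
    (h : Commute s t) :
    CompleteOrthogonalIdempotents (fun ab : F × F => ep s ab.1 * ep t ab.2) := by
  refine ⟨⟨fun ab => ?_, fun ab cd hne => ?_⟩, ?_⟩
  · exact ((coi hs).idem ab.1).mul_of_commute (ep_commute h _ _) ((coi ht).idem ab.2)
  · show ep s ab.1 * ep t ab.2 * (ep s cd.1 * ep t cd.2) = 0
    rw [(ep_commute h cd.1 ab.2).symm.mul_mul_mul_comm]
    by_cases h1 : ab.1 = cd.1
    · have h2 : ab.2 ≠ cd.2 := fun h2 => hne (Prod.ext h1 h2)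
      rw [(coi ht).ortho h2, mul_zero]
    · rw [(coi hs).ortho h1, zero_mul]
  · rw [Fintype.sum_prod_type]
    simp only [← Finset.mul_sum, (coi ht).complete, mul_one, (coi hs).complete]

theorem map_ep {B : Type*} [Ring B] [Algebra F B] (φ : A →+* B) (σ : F → F)
    (hφ : ∀ a, φ (algebraMap F A a) = algebraMap F B (σ a)) (s : A) (a : F) :
    φ (ep s a) = ep (φ s) (σ a) := by
  simp [ep, hφ]

end Spec

end CL.KGV.Idem
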