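import Cfsg.Agent.KGV.I.Idem
import Mathlib.LinearAlgebra.Matrix.Rank
import Mathlib.LinearAlgebra.Matrix.Charpoly.Coeff
import Mathlib.LinearAlgebra.Matrix.CharP
import Mathlib.Algebra.CharP.Lemmas
import Mathlib.FieldTheory.Perfect

set_option autoImplicit false

namespace CL.KGV.IM

open CL.KGV.Idem Matrix

variable {K n : Type*} [Field K] [Fintype n] [DecidableEq n]

theorem rank_map (σ : K ≃+* K) (E : Matrix n n K) : (E.map σ).rank = E.rank := by
  have h : ∀ (τ : K ≃+* K) (A : Matrix n n K) (v : n → K), v ∈ LinearMap.range A.mulVecLin →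
      (fun i => τ (v i)) ∈ LinearMap.range (A.map τ).mulVecLin := by
    rintro τ A _ ⟨w, rfl⟩
    refine ⟨τ ∘ w, ?_⟩
    ext i
    exact (RingHom.map_mulVec τ.toRingHom A w i).symm
  have e : (E.map σ).map σ.symm = E := by ext i j; simp
  let j : LinearMap.range E.mulVecLin ≃+ LinearMap.range (E.map σ).mulVecLin :=
    { toFun := fun v => ⟨fun i => σ (v.1 i), h σ E v.1 v.2⟩
      invFun := fun w => ⟨fun i => σ.symm (w.1 i), by
        have := h σ.symm (E.map σ) w.1 w.2
        rwa [e] at this⟩
      left_inv := fun v => by ext i; simp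
      right_inv := fun v => by ext i; simp
      map_add' := fun v w => by ext i; simp }
  have := rank_eq_of_equiv_equiv σ j σ.bijective (fun r m => by ext i; simp [j])
  unfold Matrix.rank Module.finrank
  rw [this]

theorem coi_lin {ι : Type*} [Fintype ι] {E : ι → Matrix n n K}
    (hE : CompleteOrthogonalIdempotents E) :
    CompleteOrthogonalIdempotents (fun i => Matrix.toLinAlgEquiv' (E i)) :=
  hE.map (Matrix.toLinAlgEquiv' : Matrix n n K ≃ₐ[K] _).toRingEquiv.toRingHom

theorem det_coi {ι : Type*} [Fintype ι] {E : ι → Matrix n n K}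
    (hE : CompleteOrthogonalIdempotents E) (c : ι → K) :
    (∑ i, c i • E i).det = ∏ i, c i ^ (E i).rank := by
  have h := det_sum_top _ (coi_lin hE) c
  rw [← LinearMap.det_toLin']
  have e : Matrix.toLin' (∑ i, c i • E i) = ∑ i, c i • Matrix.toLinAlgEquiv' (E i) := by
    rw [map_sum]; simp only [map_smul]; rfl
  rw [e, h]; rfl

theorem trace_coi {ι : Type*} [Fintype ι] {E : ι → Matrix n n K}
    (hE : CompleteOrthogonalIdempotents E) (c : ι → K) :
    (∑ i, c i • E i).trace = ∑ i, c i * (E i).rank := by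
  have h := trace_sum _ (coi_lin hE).idem c Finset.univ
  rw [← Matrix.trace_toLin'_eq]
  have e : Matrix.toLin' (∑ i, c i • E i) = ∑ i, c i • Matrix.toLinAlgEquiv' (E i) := by
    rw [map_sum]; simp only [map_smul]; rfl
  rw [e, h]; rfl

/-- `e * X + 1 - e`. -/
def cut {A : Type*} [Ring A] (e X : A) : A := e * X + (1 - e)

theorem cut_mul {A : Type*} [Ring A] {e X : A} (Y : A) (he : IsIdempotentElem e)
    (h : Commute X e) : cut e (X * Y) = cut e X * cut e Y := by
  have h1 : e * X * e = e * X := by rw [mul_assoc, h.eq, ← mul_assoc, he.eq]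
  unfold cut
  simp only [add_mul, mul_add, mul_sub, sub_mul, one_mul, mul_one, ← mul_assoc, h1, he.eq]
  abel

theorem cut_one {A : Type*} [Ring A] (e : A) : cut e 1 = 1 := by simp [cut]

theorem cut_pow {A : Type*} [Ring A] {e X : A} (he : IsIdempotentElem e)
    (h : Commute X e) (k : ℕ) : cut e (X ^ k) = cut e X ^ k := by
  induction k with
  | zero => simp [cut_one]
  | succ k ih => rw [pow_succ', cut_mul _ he h, ih, pow_succ']

theorem cut_of_mul_eq {A : Type*} [Ring A] {e X : A} (h : e * X = e) : cut e X = 1 := by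
  simp [cut, h]

section Two

variable {A ι κ : Type*} [Ring A] [Algebra K A] [Fintype ι] [Fintype κ]

theorem mul_sum_coi {P : ι → A} (hP : CompleteOrthogonalIdempotents P) (c : ι → K) (i : ι) :
    P i * ∑ j, c j • P j = c i • P i := by
  classical
  rw [Finset.mul_sum, Finset.sum_eq_single i]
  · rw [mul_smul_comm, (hP.idem i).eq]
  · intro j _ hj; rw [mul_smul_comm, hP.ortho (Ne.symm hj), smul_zero]
  · simp

theorem sum_mul_coi {P : ι → A} (hP : CompleteOrthogonalIdempotents P) (c : ι → K) (i : ι) :
    (∑ j, c j • P j) * P i = c i • P i := by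
  classical
  rw [Finset.sum_mul, Finset.sum_eq_single i]
  · rw [smul_mul_assoc, (hP.idem i).eq]
  · intro j _ hj; rw [smul_mul_assoc, hP.ortho hj, smul_zero]
  · simp

theorem ext_coi {P : ι → A} (hP : CompleteOrthogonalIdempotents P) {X : A} (c : ι → K)
    (h : ∀ i, X * P i = c i • P i) : X = ∑ i, c i • P i := by
  simp only [← h]
  rw [← Finset.mul_sum, hP.complete, mul_one]

theorem pow_mul_eig {X P : A} {c : K} (h : X * P = c • P) (k : ℕ) : X ^ k * P = c ^ k • P := by
  induction k with
  | zero => simp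
  | succ k ih => rw [pow_succ, mul_assoc, h, mul_smul_comm, ih, smul_smul, pow_succ']

theorem ep_mul_eig [Fintype K] [DecidableEq K] {X P : A} {c : K} (h : X * P = c • P) (d : K) :
    ep X d * P = if c = d then P else 0 := by
  have h1 : (X - algebraMap K A d) * P = (c - d) • P := by
    rw [sub_mul, h, sub_smul, Algebra.smul_def d]
  have hc : Fintype.card K - 1 ≠ 0 := by
    have := Fintype.one_lt_card (α := K); omega
  rw [ep, sub_mul, one_mul, pow_mul_eig h1]
  split_ifs with h2
  · simp [h2, hc]
  · rw [FiniteField.pow_card_sub_one_eq_one _ (sub_ne_zero.2 h2), one_smul, sub_self]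

theorem cut_eq {P : ι → A} (hP : CompleteOrthogonalIdempotents P) {e X : A} (c : ι → K)
    (q : ι → Prop) [DecidablePred q] (hX : ∀ i, X * P i = c i • P i)
    (he : ∀ i, e * P i = if q i then P i else 0) :
    cut e X = ∑ i, (if q i then c i else 1) • P i := by
  refine ext_coi hP _ fun i => ?_
  rw [cut, add_mul, mul_assoc, hX, mul_smul_comm, sub_mul, one_mul, he]
  split_ifs <;> simp

end Two

end CL.KGV.IM
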