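import Cfsg.Agent.KGV.I.Mat
import Mathlib.GroupTheory.GroupAction.ConjAct
import Mathlib.Algebra.Ring.Action.ConjAct
import Mathlib.LinearAlgebra.Matrix.NonsingularInverse

set_option autoImplicit false
set_option linter.unusedSectionVars false

namespace CL.KGV.IM

open CL.KGV.Idem Matrix

variable {K n : Type*} [Field K] [Fintype K] [Fintype n] [DecidableEq n]

/-- The pairing with values in `K`. -/
noncomputable def D (l : K → ℕ) (Y G : Matrix n n K) : K :=
  ∏ b, (cut (ep (Y ^ Fintype.card K) b) G).det ^ l b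

theorem D_mul (l : K → ℕ) {Y G : Matrix n n K} (G' : Matrix n n K)
    (hY : (Y ^ Fintype.card K) ^ Fintype.card K = Y ^ Fintype.card K) (h : Commute G Y) :
    D l Y (G * G') = D l Y G * D l Y G' := by
  unfold D
  rw [← Finset.prod_mul_distrib]
  refine Finset.prod_congr rfl fun b _ => ?_
  rw [cut_mul _ ((coi hY).idem b) (commute_ep (h.pow_right _) b), det_mul, mul_pow]

theorem D_one (l : K → ℕ) (Y : Matrix n n K) : D l Y 1 = 1 := by
  simp [D, cut_one]

theorem D_conj (l : K → ℕ) (u : (Matrix n n K)ˣ) (Y G : Matrix n n K) :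
    D l (u.val * Y * (u⁻¹).val) (u.val * G * (u⁻¹).val) = D l Y G := by
  let φ := MulSemiringAction.toRingHom (ConjAct (Matrix n n K)ˣ) (Matrix n n K)
    (ConjAct.toConjAct u)
  have hφ : ∀ X, φ X = u.val * X * (u⁻¹).val := fun X => rfl
  have ha : ∀ a : K, φ (algebraMap K _ a) = algebraMap K _ (id a) := fun a => by
    rw [hφ, ← (Algebra.commutes a (u : Matrix n n K)), mul_assoc, Units.mul_inv, mul_one]; rfl
  unfold D
  refine Finset.prod_congr rfl fun b _ => ?_
  have e : cut (ep ((φ Y) ^ Fintype.card K) b) (φ G) = φ (cut (ep (Y ^ Fintype.card K) b) G) := by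
    rw [cut, cut, map_add, map_mul, map_sub, map_one, map_ep φ id ha, map_pow]; rfl
  rw [← hφ, ← hφ, e, hφ, det_units_conj]

theorem D_fix (l : K → ℕ) (h1 : l 1 = 0) {G X : Matrix n n K} (hG : G ^ Fintype.card K = G)
    (hc : Commute X G) (hx : X * (G - 1) = G - 1) : D l G X = 1 := by
  unfold D
  refine Finset.prod_eq_one fun a _ => ?_
  by_cases ha : a = 1
  · rw [ha, h1, pow_zero]
  · rw [hG]
    have h2 : (G - 1) * ep G a = (a - 1) • ep G a := by
      rw [sub_mul, mul_ep hG, one_mul, sub_smul, one_smul]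
    have h3 : (a - 1) • (X * ep G a) = (a - 1) • ep G a := by
      rw [← mul_smul_comm, ← h2, ← mul_assoc, hx]
    have h4 := smul_right_injective _ (sub_ne_zero.2 ha) h3
    rw [cut_of_mul_eq ((commute_ep hc a).eq.symm.trans h4), det_one, one_pow]

theorem ep_zero {S : Matrix n n K} (hS : S ^ Fintype.card K = S) (hu : IsUnit S) :
    ep S (0 : K) = 0 := by
  have h := mul_ep hS (0 : K)
  rw [zero_smul] at h
  exact (hu.mul_right_eq_zero).1 h

/-- The joint idempotents. -/
noncomputable def PP (G S : Matrix n n K) (ab : K × K) : Matrix n n K := ep G ab.1 * ep S ab.2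

/-- The re-indexed semisimple part. -/
noncomputable def RR (ρ : K → K → K) (G S : Matrix n n K) : Matrix n n K :=
  ∑ ab : K × K, ρ ab.1 ab.2 • PP G S ab

section

variable {G S : Matrix n n K} (hG : G ^ Fintype.card K = G) (hS : S ^ Fintype.card K = S)
  (hc : Commute G S)
include hG hS hc

theorem coiP : CompleteOrthogonalIdempotents (PP G S) := coi2 hG hS hc

theorem G_PP (ab : K × K) : G * PP G S ab = ab.1 • PP G S ab := by
  rw [PP, ← mul_assoc, mul_ep hG, smul_mul_assoc]

theorem S_PP (ab : K × K) : S * PP G S ab = ab.2 • PP G S ab := by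
  rw [PP, ← mul_assoc, (commute_ep hc.symm ab.1).eq, mul_assoc, mul_ep hS, mul_smul_comm]

theorem R_PP (ρ : K → K → K) (ab : K × K) :
    RR ρ G S * PP G S ab = ρ ab.1 ab.2 • PP G S ab := sum_mul_coi (coiP hG hS hc) _ ab

theorem RR_pow (ρ : K → K → K) : RR ρ G S ^ Fintype.card K = RR ρ G S := by
  rw [ext_coi (coiP hG hS hc) _ fun ab => pow_mul_eig (R_PP hG hS hc ρ ab) (Fintype.card K)]
  simp only [FiniteField.pow_card]; rfl

theorem det_cut_S (b : K) : (cut (ep S b) G).det = ∏ a, a ^ (PP G S (a, b)).rank := by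
  classical
  rw [cut_eq (coiP hG hS hc) (fun ab => ab.1) (fun ab => ab.2 = b) (G_PP hG hS hc)
    (fun ab => ep_mul_eig (S_PP hG hS hc ab) b), det_coi (coiP hG hS hc), Fintype.prod_prod_type]
  refine Finset.prod_congr rfl fun a _ => ?_
  rw [Finset.prod_eq_single b] <;> simp +contextual

theorem det_cut_G (ρ : K → K → K) (a : K) :
    (cut (ep G a) (RR ρ G S)).det = ∏ b, ρ a b ^ (PP G S (a, b)).rank := by
  classical
  rw [cut_eq (coiP hG hS hc) (fun ab => ρ ab.1 ab.2) (fun ab => ab.1 = a) (R_PP hG hS hc ρ)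
    (fun ab => ep_mul_eig (G_PP hG hS hc ab) a), det_coi (coiP hG hS hc), Fintype.prod_prod_type,
    Finset.prod_eq_single a] <;> simp +contextual

theorem PP_eq (ρ : K → K → K) (hρ : ∀ a, Function.Injective (ρ a)) (ab : K × K) :
    PP G S ab = ep G ab.1 * ep (RR ρ G S) (ρ ab.1 ab.2) := by
  classical
  have h : ∀ cd : K × K, ep G ab.1 * ep (RR ρ G S) (ρ ab.1 ab.2) * PP G S cd =
      (if cd = ab then (1 : K) else 0) • PP G S cd := by
    intro cd
    rw [mul_assoc, ep_mul_eig (R_PP hG hS hc ρ cd)]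
    by_cases h1 : cd.1 = ab.1
    · by_cases h2 : cd.2 = ab.2
      · have : cd = ab := Prod.ext h1 h2
        subst this
        simp [ep_mul_eig (G_PP hG hS hc cd)]
      · have h3 : ρ cd.1 cd.2 ≠ ρ ab.1 ab.2 := fun h => h2 (hρ ab.1 (h1 ▸ h))
        have h4 : cd ≠ ab := fun h => h2 (h ▸ rfl)
        simp [h3, h4]
    · have h4 : cd ≠ ab := fun h => h1 (h ▸ rfl)
      split_ifs <;> simp [ep_mul_eig (G_PP hG hS hc cd), h1]
  rw [ext_coi (coiP hG hS hc) _ h]
  simp

theorem S_eq : S = ∑ ab : K × K, ab.2 • PP G S ab := ext_coi (coiP hG hS hc) _ (S_PP hG hS hc)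

end

theorem commute_RR (ρ : K → K → K) {G S T : Matrix n n K} (h1 : Commute T G) (h2 : Commute T S) :
    Commute T (RR ρ G S) :=
  Commute.sum_right _ _ _ fun ab _ =>
    ((commute_ep h1 ab.1).mul_right (commute_ep h2 ab.2)).smul_right _

theorem RR_inj (ρ : K → K → K) (hρ : ∀ a, Function.Injective (ρ a)) {G S S' : Matrix n n K}
    (hG : G ^ Fintype.card K = G) (hS : S ^ Fintype.card K = S) (hc : Commute G S)
    (hS' : S' ^ Fintype.card K = S') (hc' : Commute G S') (h : RR ρ G S = RR ρ G S') : S = S' := by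
  rw [S_eq hG hS hc, S_eq hG hS' hc']
  refine Finset.sum_congr rfl fun ab _ => ?_
  rw [PP_eq hG hS hc ρ hρ ab, PP_eq hG hS' hc' ρ hρ ab, h]

theorem map_PP (σ : K ≃+* K) {G S : Matrix n n K} (hG : G.map σ = G) (hS : S.map σ = S)
    (ab : K × K) : (PP G S ab).map σ = PP G S (σ ab.1, σ ab.2) := by
  have ha : ∀ a : K, σ.toRingHom.mapMatrix (algebraMap K (Matrix n n K) a) =
      algebraMap K (Matrix n n K) (σ a) := fun a => by
    ext i j
    by_cases h : i = j <;> simp [Matrix.algebraMap_matrix_apply, h]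
  have e1 := map_ep σ.toRingHom.mapMatrix σ ha G ab.1
  have e2 := map_ep σ.toRingHom.mapMatrix σ ha S ab.2
  have hG' : σ.toRingHom.mapMatrix G = G := hG
  have hS' : σ.toRingHom.mapMatrix S = S := hS
  rw [hG'] at e1
  rw [hS'] at e2
  show σ.toRingHom.mapMatrix (ep G ab.1 * ep S ab.2) = _
  rw [map_mul, e1, e2]; rfl

theorem map_RR (σ : K ≃+* K) (ρ : K → K → K) (hρ : ∀ a b, ρ (σ a) (σ b) = σ (ρ a b))
    {G S : Matrix n n K} (hG : G.map σ = G) (hS : S.map σ = S) :
    (RR ρ G S).map σ = RR ρ G S := by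
  have e : (RR ρ G S).map σ = ∑ ab : K × K, σ (ρ ab.1 ab.2) • (PP G S ab).map σ := by
    ext i j
    simp [RR, Matrix.sum_apply]
  rw [e, RR, ← (σ.toEquiv.prodCongr σ.toEquiv).sum_comp
    (fun ab : K × K => ρ ab.1 ab.2 • PP G S ab)]
  refine Finset.sum_congr rfl fun ab _ => ?_
  rw [map_PP σ hG hS, ← hρ]; rfl

theorem det_cut_unip {e U : Matrix n n K} (he : IsIdempotentElem e) (h : Commute U e)
    (hU : U ^ Fintype.card K = 1) : (cut e U).det = 1 := by
  rw [← FiniteField.pow_card (cut e U).det, ← det_pow, ← cut_pow he h, hU, cut_one, det_one]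

theorem trace_unip (p : ℕ) [Fact p.Prime] [CharP K p] {U T : Matrix n n K} (h : Commute U T)
    (hU : U ^ Fintype.card K = 1) : (U * T).trace = T.trace := by
  obtain ⟨k, -, hk⟩ := FiniteField.card K p
  rcases isEmpty_or_nonempty n with hn | hn
  · simp [Matrix.trace]
  have h1 : IsNilpotent (U - 1) := ⟨p ^ (k : ℕ), by
    rw [sub_pow_char_pow_of_commute p k (Commute.one_right U), ← hk, hU, one_pow, sub_self]⟩
  have h2 : IsNilpotent ((U - 1) * T) :=
    (h.sub_left (Commute.one_left T)).isNilpotent_mul_right h1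
  have h3 := (Matrix.isNilpotent_trace_of_isNilpotent h2).eq_zero
  rwa [sub_mul, one_mul, trace_sub, sub_eq_zero] at h3

end CL.KGV.IM
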